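/-
Project T3: the base frame `Bs`.
-/
import Cfsg.Agent.T3.Defs
import Cfsg.Agent.S3347
import Cfsg.Agent.Loc.PLength

set_option autoImplicit false
set_option linter.unusedSectionVars false
open Cfsg Subgroup CL.Even CL.Grp

namespace CL.T3

universe u

namespace BsX

variable {G : Type u} [Group G] [Finite G]

theorem cube {p : G} (h : orderOf p = 3) : p ^ 3 = 1 := h ▸ pow_orderOf_eq_one p

theorem mem_zp {p r : G} (h : orderOf p = 3) (hr : r ∈ zpowers p) : r = 1 ∨ r = p ∨ r = p⁻¹ := by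
  obtain ⟨k, rfl⟩ := mem_powers_iff_mem_zpowers.2 hr
  have h3 := cube h
  show p ^ k = 1 ∨ p ^ k = p ∨ p ^ k = p⁻¹
  rw [← pow_mod_orderOf, h]
  have : k % 3 = 0 ∨ k % 3 = 1 ∨ k % 3 = 2 := by omega
  rcases this with e | e | e <;> rw [e]
  · simp
  · simp
  · right; right
    rw [eq_inv_iff_mul_eq_one, ← pow_succ, h3]

theorem zp_norm {p q : G} (h : p * q = q * p) : zpowers p ≤ 𝒩(zpowers q) := by
  refine le_trans ?_ (cent_le_norm _)
  rw [zpowers_le]
  rintro _ ⟨k, rfl⟩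
  exact ((Commute.symm h).zpow_left k).eq

theorem card_two {p q : G} (hp : orderOf p = 3) (hq : orderOf q = 3) (h : p * q = q * p) (hn : q ∉ zpowers p) :
    Nat.card (zpowers p ⊔ zpowers q : Subgroup G) = 9 := by
  rw [card_sup_of_inf_eq_bot (zp_norm h), Nat.card_zpowers, Nat.card_zpowers, hp, hq]
  rw [eq_bot_iff]
  rintro r ⟨h1, h2⟩
  rcases mem_zp hq h2 with e | e | e
  · exact e
  · exact absurd (e ▸ h1) hn
  · exact absurd (inv_mem_iff.1 (e ▸ h1)) hn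

/-- the data on the Sylow 3-subgroup -/
structure PD (P : Subgroup G) : Prop where
  cP : Nat.card P = 9
  c3 : ∀ p ∈ P, p ^ 3 = 1
  cm : ∀ p ∈ P, ∀ q ∈ P, p * q = q * p

theorem exPD (L : Loc G) : ∃ P : Subgroup G, PD P := by
  obtain ⟨x, hx⟩ := L.ex
  obtain ⟨y, hy, hxy, hn⟩ := L.ex3 x hx
  have hc : Commute x y := hxy
  refine ⟨zpowers x ⊔ zpowers y, card_two hx hy hxy hn, fun p hp => ?_, fun p hp q hq => ?_⟩
  · obtain ⟨_, ⟨a, rfl⟩, _, ⟨b, rfl⟩, rfl⟩ := (mem_sup_nr (zp_norm hxy)).1 hp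
    show (x ^ a * y ^ b) ^ 3 = 1
    rw [(hc.zpow_zpow a b).mul_pow, ← zpow_natCast, ← zpow_natCast, ← zpow_mul, ← zpow_mul, mul_comm a, mul_comm b,
      zpow_mul, zpow_mul, zpow_natCast, zpow_natCast, cube hx, cube hy]
    simp
  · obtain ⟨_, ⟨a, rfl⟩, _, ⟨b, rfl⟩, rfl⟩ := (mem_sup_nr (zp_norm hxy)).1 hp
    obtain ⟨_, ⟨c, rfl⟩, _, ⟨d, rfl⟩, rfl⟩ := (mem_sup_nr (zp_norm hxy)).1 hq
    exact (Commute.mul_left (Commute.mul_right (Commute.zpow_zpow_self x a c) (hc.zpow_zpow a d))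
      (Commute.mul_right (hc.symm.zpow_zpow b c) (Commute.zpow_zpow_self y b d))).eq

variable {P : Subgroup G}

theorem PD.o3 (h : PD P) : ∀ p ∈ P, p ≠ 1 → orderOf p = 3 := fun p hp h1 =>
  haveI := Fact.mk Nat.prime_three
  orderOf_eq_prime (h.c3 p hp) h1

theorem PD.gen (h : PD P) : ∀ p ∈ P, p ≠ 1 → ∀ q ∈ P, q ∉ zpowers p → zpowers p ⊔ zpowers q = P := by
  intro p hp h1 q hq hn
  have hq1 : q ≠ 1 := fun e => hn (e ▸ one_mem _)
  exact eq_of_le_of_card_ge (sup_le (zpowers_le.2 hp) (zpowers_le.2 hq))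
    (by rw [h.cP, card_two (h.o3 p hp h1) (h.o3 q hq hq1) (h.cm p hp q hq) hn])

theorem PD.four (h : PD P) : ∀ p ∈ P, p ≠ 1 → ∀ q ∈ P, q ∉ zpowers p → ∀ r ∈ P,
    r ∈ zpowers p ∨ r ∈ zpowers q ∨ r ∈ zpowers (p * q) ∨ r ∈ zpowers (p * q⁻¹) := by
  intro p hp h1 q hq hn r hr
  have hq1 : q ≠ 1 := fun e => hn (e ▸ one_mem _)
  have hc := h.cm p hp q hq
  rw [← h.gen p hp h1 q hq hn] at hr
  obtain ⟨a, ha, b, hb, rfl⟩ := (mem_sup_nr (zp_norm hc)).1 hr
  rcases mem_zp (h.o3 q hq hq1) hb with rfl | rfl | rfl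
  · left; rwa [mul_one]
  · rcases mem_zp (h.o3 p hp h1) ha with rfl | rfl | rfl
    · right; left; rwa [one_mul]
    · right; right; left; exact mem_zpowers _
    · right; right; right
      have : p⁻¹ * b = (p * b⁻¹)⁻¹ := by
        rw [mul_inv_rev, inv_inv]; exact (Commute.inv_left hc).eq
      rw [this]; exact inv_mem (mem_zpowers _)
  · rcases mem_zp (h.o3 p hp h1) ha with rfl | rfl | rfl
    · right; left; rwa [one_mul]
    · right; right; right; exact mem_zpowers _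
    · right; right; left
      have : p⁻¹ * q⁻¹ = (p * q)⁻¹ := by rw [hc, mul_inv_rev]
      rw [this]; exact inv_mem (mem_zpowers _)

theorem PD.exq (h : PD P) {p : G} (hp : p ∈ P) (h1 : p ≠ 1) : ∃ q ∈ P, q ∉ zpowers p := by
  by_contra! hc
  have := card_le_of_le (show P ≤ zpowers p from hc)
  rw [h.cP, Nat.card_zpowers, h.o3 p hp h1] at this
  omega

theorem PD.exp (h : PD P) : ∃ p ∈ P, p ≠ 1 := by
  by_contra! hc
  have : P = ⊥ := (eq_bot_iff_forall _).2 hc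
  have h9 := h.cP
  rw [this, card_bot] at h9
  omega

theorem PD.two (h : PD P) {v : G} (hv : v ∈ P) (h2 : v * v = 1) : v = 1 := by
  have := h.c3 v hv
  rwa [pow_succ, pow_two, h2, one_mul] at this

theorem PD.cc (h : PD P) (L : Loc G) {p q g : G} (hp : p ∈ P) (h1 : p ≠ 1) (hq : q ∈ P) (hn : q ∉ zpowers p)
    (e1 : g * p = p * g) (e2 : g * q = q * g) : g ∈ P := by
  have hq1 : q ≠ 1 := fun e => hn (e ▸ one_mem _)
  rw [← h.gen p hp h1 q hq hn, ← L.cP p q (h.o3 p hp h1) (h.o3 q hq hq1) (h.cm p hp q hq) hn]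
  exact ⟨mem_C1.2 e1, mem_C1.2 e2⟩

theorem PD.cent (h : PD P) (L : Loc G) {g : G} (hg : ∀ p ∈ P, g * p = p * g) : g ∈ P := by
  obtain ⟨p, hp, h1⟩ := h.exp
  obtain ⟨q, hq, hn⟩ := h.exq hp h1
  exact h.cc L hp h1 hq hn (hg p hp) (hg q hq)

theorem PD.PV (h : PD P) : ∀ x ∈ P, P ≤ 𝒩(V x) := fun x hx g hg => by
  rw [← cj_eq_iff_mem, ← V_conj, h.cm g hg x hx, mul_inv_cancel_right]

theorem PD.isP (h : PD P) : IsPGroup 3 P := IsPGroup.of_card (n := 2) h.cP

theorem PD.ndvd (h : PD P) (L : Loc G) : ¬ 3 ∣ P.index := fun h3 => L.not27 (by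
  rw [← P.card_mul_index, h.cP]
  exact Nat.mul_dvd_mul_left 9 h3)

/-- an element of `N(P)` centralising a non-trivial element of `P` lies in `P` -/
theorem PD.key (h : PD P) (L : Loc G) {n p : G} (hn : n ∈ 𝒩(P)) (hp : p ∈ P) (h1 : p ≠ 1) (e : n * p = p * n) :
    n ∈ P := by
  have ho := h.o3 p hp h1
  have hb : P ⊓ V p = ⊥ := (eq_bot_iff_forall _).2 fun v hv => h.two hv.1 ((L.mem p ho v).1 hv.2).2
  have hs : P ⊔ V p = C1 p := eq_of_le_of_card_ge
    (sup_le (fun q hq => mem_C1.2 (h.cm q hq p hp)) (V_le_C1 p))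
    (by rw [card_sup_of_inf_eq_bot (h.PV p hp) hb, h.cP, L.cC p ho])
  have hn' : n ∈ P ⊔ V p := hs ▸ mem_C1.2 e
  obtain ⟨q, hq, v, hv, rfl⟩ := (mem_sup_nr (h.PV p hp)).1 hn'
  have hvN : v ∈ 𝒩(P) := by
    have := mul_mem (inv_mem (le_normalizer hq)) hn
    rwa [inv_mul_cancel_left] at this
  refine mul_mem hq (h.cent L fun r hr => ?_)
  have h2 : v * r * v⁻¹ * r⁻¹ ∈ P ⊓ V p := by
    refine mem_inf.2 ⟨mul_mem (conj_mem hvN hr) (inv_mem hr), ?_⟩
    have := mul_mem hv (conj_mem (h.PV p hp hr) (inv_mem hv))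
    simpa only [mul_assoc] using this
  rw [hb, mem_bot, mul_inv_eq_one, mul_inv_eq_iff_eq_mul] at h2
  exact h2

theorem PD.inv (h : PD P) (L : Loc G) {n : G} (hn : n ∈ 𝒩(P)) (h2 : n * n ∈ P) (hP : n ∉ P) :
    ∀ p ∈ P, n * p * n⁻¹ = p⁻¹ := by
  intro p hp
  have hq := conj_mem hn hp
  by_contra hne
  refine hP (h.key L hn (mul_mem hp hq) (fun e => hne (eq_inv_of_mul_eq_one_right e)) ?_)
  have e1 : n * n * p = p * (n * n) := h.cm _ h2 _ hp
  have e2 := h.cm _ hp _ hq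
  calc n * (p * (n * p * n⁻¹)) = n * p * n⁻¹ * (n * n * p) * n⁻¹ := by group
    _ = (n * p * n⁻¹ * p) * n := by rw [e1]; group
    _ = p * (n * p * n⁻¹) * n := by rw [← e2]

theorem PD.diff (h : PD P) (L : Loc G) {n i : G} (hn : ∀ p ∈ P, n * p * n⁻¹ = p⁻¹)
    (hi : ∀ p ∈ P, i * p * i⁻¹ = p⁻¹) : n * i⁻¹ ∈ P := h.cent L fun p hp => by
  have e1 := hi _ (inv_mem hp)
  have e2 := hn _ (inv_mem hp)
  rw [inv_inv] at e1 e2
  calc n * i⁻¹ * p = n * i⁻¹ * (i * p⁻¹ * i⁻¹) := by rw [e1]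
    _ = n * p⁻¹ * n⁻¹ * (n * i⁻¹) := by group
    _ = _ := by rw [e2]

/-- a subgroup of `N(P)` meeting `P` trivially has order dividing 8 -/
theorem PD.dvd8 (h : PD P) (L : Loc G) {E : Subgroup G} (hE : E ≤ 𝒩(P)) (hb : ∀ e ∈ E, e ∈ P → e = 1) :
    Nat.card E ∣ 8 := by
  classical
  let X := {p : G // p ∈ P ∧ p ≠ 1}
  let _ : MulAction E X :=
    { smul := fun e x => ⟨e * x.1 * (e : G)⁻¹, conj_mem (hE e.2) x.2.1, fun c => x.2.2 (by
        rw [mul_inv_eq_one, mul_eq_left] at c; exact c)⟩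
      one_smul := fun x => Subtype.ext (show ((1 : E) : G) * x.1 * ((1 : E) : G)⁻¹ = x.1 by simp)
      mul_smul := fun a b x => Subtype.ext (show ((a * b : E) : G) * x.1 * ((a * b : E) : G)⁻¹ =
        a * (b * x.1 * (b : G)⁻¹) * (a : G)⁻¹ by rw [coe_mul]; group) }
  have hst : ∀ x : X, MulAction.stabilizer E x = ⊥ := fun x => (eq_bot_iff_forall _).2 fun e he => by
    have e1 : (e : G) * x.1 * (e : G)⁻¹ = x.1 := congrArg Subtype.val (MulAction.mem_stabilizer_iff.1 he)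
    exact Subtype.ext (hb e e.2 (h.key L (hE e.2) x.2.1 x.2.2 (mul_inv_eq_iff_eq_mul.1 e1)))
  have hX : Nat.card X = 8 := by
    have e1 : Nat.card X = ((P : Set G) \ {1}).ncard := rfl
    rw [e1, Set.ncard_sdiff_singleton_of_mem (show (1 : G) ∈ (P : Set G) from P.one_mem)]
    have : (P : Set G).ncard = 9 := h.cP
    rw [this]
  rw [← hX, Nat.card_congr (MulAction.selfEquivOrbitsQuotientProd hst), Nat.card_prod]
  exact dvd_mul_left _ _

theorem PD.compl (h : PD P) (L : Loc G) : ∃ E : Subgroup G, E ≤ 𝒩(P) ∧ (∀ e ∈ E, e ∈ P → e = 1) ∧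
    Nat.card 𝒩(P) = 9 * Nat.card E := by
  have hc : Nat.card (P.subgroupOf 𝒩(P)) = 9 := by rw [card_subgroupOf_of_le le_normalizer, h.cP]
  have hco : Nat.Coprime (Nat.card (P.subgroupOf 𝒩(P))) (P.subgroupOf 𝒩(P)).index := by
    rw [hc]
    exact ((Nat.Prime.coprime_iff_not_dvd Nat.prime_three).2 fun h3 =>
      h.ndvd L (h3.trans (relIndex_dvd_index_of_le le_normalizer))).pow_left 2
  obtain ⟨H, hH⟩ := exists_right_complement'_of_coprime hco
  refine ⟨H.map (𝒩(P)).subtype, map_subtype_le _, ?_, ?_⟩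
  · rintro _ ⟨e, he, rfl⟩ hp
    have : e ∈ P.subgroupOf 𝒩(P) ⊓ H := ⟨hp, he⟩
    rw [hH.disjoint.eq_bot, mem_bot] at this
    rw [this, map_one]
  · rw [card_map_subtype, ← hH.card_mul_card, hc]

theorem PD.ceq (h : PD P) (L : Loc G) : 𝒞(P) = P :=
  le_antisymm (fun _ hg => h.cent L fun p hp => (hg p hp).symm) fun g hg p hp => h.cm p hp g hg

theorem PD.ntop (h : PD P) (nab : ¬ IsMulCommutative G) : ¬ IsPGroup 3 G ∨ ¬ ¬ 3 ∣ P.index := by
  by_contra! hc
  have := Fact.mk Nat.prime_three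
  obtain ⟨k, hk⟩ := hc.1.index P
  have h1 : P.index = 1 := by
    rcases k with _ | k
    · simpa using hk
    · exact absurd (hk ▸ dvd_pow_self 3 k.succ_ne_zero) hc.2
  rw [index_eq_one] at h1
  exact nab ⟨⟨fun a b => h.cm a (h1 ▸ mem_top a) b (h1 ▸ mem_top b)⟩⟩

theorem PD.ne9 (h : PD P) (L : Loc G) [IsSimpleGroup G] (nab : ¬ IsMulCommutative G) : Nat.card 𝒩(P) ≠ 9 := by
  intro h9
  have := Fact.mk Nat.prime_three
  have hN : P = 𝒩(P) := eq_of_le_of_card_ge le_normalizer (by rw [h9, h.cP])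
  let S : Sylow 3 G := h.isP.toSylow (h.ndvd L)
  have hS : 𝒩((S : Subgroup G)) ≤ 𝒞((S : Subgroup G)) := by
    show 𝒩(P) ≤ 𝒞(P)
    rw [h.ceq L, ← hN]
  have c := MonoidHom.ker_transferSylow_isComplement' S hS
  rcases IsSimpleGroup.eq_bot_or_eq_top_of_normal (MonoidHom.transferSylow S hS).ker inferInstance with e | e
  · have := c.sup_eq_top
    rw [e, bot_sup_eq] at this
    have h1 : P = ⊤ := this
    exact nab ⟨⟨fun a b => h.cm a (h1 ▸ mem_top a) b (h1 ▸ mem_top b)⟩⟩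
  · have := c.disjoint.eq_bot
    rw [e] at this
    have h1 : P = ⊥ := (top_inf_eq _).symm.trans this
    have := h.cP
    rw [h1, card_bot] at this
    omega

theorem PD.ne18 (h : PD P) (L : Loc G) [IsSimpleGroup G] (nab : ¬ IsMulCommutative G) : Nat.card 𝒩(P) ≠ 18 := by
  intro h18
  have := Fact.mk Nat.prime_three
  let S : Sylow 3 G := h.isP.toSylow (h.ndvd L)
  have hnp : ¬ IsPGroup 3 G := (h.ntop nab).resolve_right (not_not.2 (h.ndvd L))
  have h3 : 3 ∣ Nat.card G := (show 3 ∣ Nat.card P by rw [h.cP]; norm_num).trans (card_subgroup_dvd_card P)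
  rcases Cfsg.Agent.S3347.result 3 (by norm_num) S ⟨⟨fun a b => Subtype.ext (h.cm a a.2 b b.2)⟩⟩ (fun hc => by
      have hc' : IsCyclic P := hc
      obtain ⟨g, hg⟩ := hc'.exists_ofOrder_eq_natCard
      have : orderOf g ∣ 3 := orderOf_dvd_of_pow_eq_one (Subtype.ext (h.c3 g g.2))
      rw [hg, h.cP] at this
      omega) (by
      show (𝒞(P)).relIndex 𝒩(P) = 2
      have := card_mul_relIndex (le_normalizer : P ≤ 𝒩(P))
      rw [h.cP, h18] at this
      rw [h.ceq L]; omega) with e | e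
  · have hn : (pResidual 3 G).Normal := by
      rw [← res_top, ← normalizer_eq_top_iff, eq_top_iff]; exact self_le_norm_res ⊤
    have hb := (IsSimpleGroup.eq_bot_or_eq_top_of_normal _ hn).resolve_right e
    rw [← res_top] at hb
    exact hnp ((isPGroup_of_res_eq_bot hb).of_equiv topEquiv)
  · rw [CL.Loc.pLengthLE_one_iff] at e
    have h1 : pPrimeCore 3 G = ⊥ := (IsSimpleGroup.eq_bot_or_eq_top_of_normal _ inferInstance).resolve_right fun c =>
      (Nat.Prime.coprime_iff_not_dvd Nat.prime_three).1 (pPrimeCore_eq_top_iff.1 c).symm h3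
    have h2 : pCore 3 G = ⊥ := (IsSimpleGroup.eq_bot_or_eq_top_of_normal _ inferInstance).resolve_right fun c =>
      hnp (pCore_eq_top_iff.1 c)
    rw [pPrimePCore_eq_pCore h1, h2, index_bot] at e
    exact (Nat.Prime.coprime_iff_not_dvd Nat.prime_three).1 e.symm h3

end BsX

open BsX in
theorem bsS : BsS.{u} := by
  intro G _ _ hs nab L
  have := Fact.mk Nat.prime_three
  have := Fact.mk Nat.prime_two
  obtain ⟨P, h⟩ := exPD L
  obtain ⟨E, hE, hb, hc⟩ := h.compl L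
  have h8 := h.dvd8 L hE hb
  have h48 : Nat.card E = 4 ∨ Nat.card E = 8 := by
    have n1 := h.ne9 L nab
    have n2 := h.ne18 L nab
    have : Nat.card E ≤ 8 := Nat.le_of_dvd (by norm_num) h8
    rw [hc] at n1 n2
    generalize Nat.card E = m at *
    interval_cases m <;> omega
  obtain ⟨⟨i, hiE⟩, hi⟩ := exists_prime_orderOf_dvd_card' (G := E) 2 (by omega)
  have i2 : orderOf i = 2 := by rw [← hi, orderOf_mk]
  have ii : i * i = 1 := by rw [← pow_two, ← i2, pow_orderOf_eq_one]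
  have i1 : i ≠ 1 := fun e => by rw [e, orderOf_one] at i2; omega
  have iP : i ∉ P := fun c => i1 (hb i hiE c)
  have iinv := h.inv L (hE hiE) (ii ▸ P.one_mem) iP
  have uniq : ∀ j ∈ E, j * j = 1 → j ≠ 1 → j = i := fun j hj jj j1 =>
    mul_inv_eq_one.1 (hb _ (mul_mem hj (inv_mem hiE))
      (h.diff L (h.inv L (hE hj) (jj ▸ P.one_mem) fun c => j1 (hb j hj c)) iinv))
  obtain ⟨f, hfE, ff⟩ : ∃ f ∈ E, f * f = i := by
    obtain ⟨g, hg, hn⟩ : ∃ g ∈ E, g ∉ zpowers i := by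
      by_contra! hc
      have := card_le_of_le (show E ≤ zpowers i from hc)
      rw [Nat.card_zpowers, i2] at this
      omega
    have g2 : g * g ≠ 1 := fun c => hn (by
      by_cases g1 : g = 1
      · rw [g1]; exact one_mem _
      · rw [uniq g hg c g1]; exact mem_zpowers _)
    by_cases g4 : g * g * (g * g) = 1
    · exact ⟨g, hg, uniq _ (mul_mem hg hg) g4 g2⟩
    · refine ⟨g * g, mul_mem hg hg, uniq _ (mul_mem (mul_mem hg hg) (mul_mem hg hg)) ?_ g4⟩
      have : g ^ 8 = 1 := orderOf_dvd_iff_pow_eq_one.1 ((E.orderOf_dvd_natCard hg).trans h8)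
      rw [← this]; simp only [pow_succ, pow_zero, one_mul, mul_assoc]
  have fix : ∀ n ∈ 𝒩(P), ∀ x ∈ P, x ≠ 1 → n * x * n⁻¹ ∈ zpowers x → ∃ p ∈ P, n = p ∨ n = p * i := by
    intro n hn x hx x1 hz
    rcases mem_zp (h.o3 x hx x1) hz with e | e | e
    · rw [mul_inv_eq_one, mul_eq_left] at e; exact absurd e x1
    · exact ⟨n, h.key L hn hx x1 (mul_inv_eq_iff_eq_mul.1 e), .inl rfl⟩
    · refine ⟨n * i⁻¹, h.key L (mul_mem hn (inv_mem (hE hiE))) hx x1 ?_, .inr (by group)⟩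
      have e1 := iinv _ (inv_mem hx)
      rw [inv_inv] at e1
      have e2 : n * x⁻¹ * n⁻¹ = x := by
        calc n * x⁻¹ * n⁻¹ = (n * x * n⁻¹)⁻¹ := by group
          _ = x := by rw [e, inv_inv]
      calc n * i⁻¹ * x = n * i⁻¹ * (i * x⁻¹ * i⁻¹) := by rw [e1]
        _ = n * x⁻¹ * n⁻¹ * (n * i⁻¹) := by group
        _ = _ := by rw [e2]
  have iV : ∀ x ∈ P, i ∈ 𝒩(V x) := fun x hx => by rw [← cj_eq_iff_mem, ← V_conj, iinv x hx, V_inv]
  refine ⟨⟨P, i, f, hs, nab, L, h.cP, h.o3, h.cm, h.gen, h.four, fun s hs3 => ?_, i2, iinv, hE hfE, ff,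
    fun p hp p1 hz => ?_, by omega, fix, fun n hn h2 => ?_, h.PV, iV, fun x hx x1 hV => ?_⟩⟩
  · obtain ⟨g, hg⟩ := exists_conj_le_sylow (h.isP.toSylow (h.ndvd L))
      (isPGroup_zpowers (p := 3) (k := 1) (x := s) (by rw [pow_one, cube hs3]))
    exact ⟨g, hg (conj_mem_conj_smul g (mem_zpowers s))⟩
  · obtain ⟨q, hq, e | e⟩ := fix f (hE hfE) p hp p1 hz
    · exact iP (ff ▸ mul_mem (e ▸ hq) (e ▸ hq))
    · apply i1
      rw [← ff, e]
      calc q * i * (q * i) = q * (i * q * i⁻¹) * (i * i) := by group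
        _ = 1 := by rw [iinv q hq, ii]; group
  · by_cases hP : n ∈ P
    · exact ⟨n, hP, .inl rfl⟩
    · exact ⟨n * i⁻¹, h.diff L (h.inv L hn h2 hP) iinv, .inr (by group)⟩
  · have ho := h.o3 x hx x1
    have c4 := L.cV x ho hV
    have el : El (V x) := fun a ha => ((L.mem x ho a).1 ha).2
    have d : Nat.card (V x ⊓ C1 i : Subgroup G) ∣ 2 ^ 2 := by
      rw [show 2 ^ 2 = Nat.card (V x) by rw [c4]; rfl]; exact card_dvd_of_le inf_le_left
    obtain ⟨v, hv, v1⟩ : ∃ v ∈ V x, v ≠ 1 := by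
      by_contra! hc
      exact hV ((eq_bot_iff_forall _).2 hc)
    have n1 : Nat.card (V x ⊓ C1 i : Subgroup G) ≠ 1 := fun c => by
      have hb := (eq_bot_iff_forall _).1 (card_eq_one.1 c)
      have hw := conj_mem (iV x hx) hv
      have e1 : v * (i * v * i⁻¹) = 1 := hb _ ⟨mul_mem hv hw, mem_C1.2 (by
        calc v * (i * v * i⁻¹) * i = (i * i) * v * i * v := by rw [ii]; group
          _ = i * ((i * v * i⁻¹) * v) * i⁻¹ * i := by
            have : i * (i * v * i⁻¹ * v) * i⁻¹ * i = i * i * v * i⁻¹ * v := by group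
            rw [this, show i⁻¹ = i from inv_eq_of_mul_eq_one_right ii]
          _ = i * (v * (i * v * i⁻¹)) := by rw [el.comm hw hv]; group)⟩
      have e2 : i * v * i⁻¹ = v := by
        rw [← el v hv] at e1; exact mul_left_cancel e1
      exact v1 (hb v ⟨hv, mem_C1.2 (mul_inv_eq_iff_eq_mul.1 e2).symm⟩)
    have n4 : Nat.card (V x ⊓ C1 i : Subgroup G) ≠ 4 := fun c => by
      have he : V x ⊓ C1 i = V x := eq_of_le_of_card_ge inf_le_left (by rw [c, c4])
      have hC : ∀ w ∈ V x, i * w * i⁻¹ = w := fun w hw =>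
        mul_inv_eq_iff_eq_mul.2 (mem_C1.1 (he.ge hw).2).symm
      obtain ⟨y, hy, hn⟩ := h.exq hx x1
      have e1 := hC _ (conj_mem (h.PV x hx hy) hv)
      have e2 : y⁻¹ * v * y = y * v * y⁻¹ := by
        calc y⁻¹ * v * y = (i * y * i⁻¹) * (i * v * i⁻¹) * (i * y * i⁻¹)⁻¹ := by rw [iinv y hy, hC v hv, inv_inv]
          _ = i * (y * v * y⁻¹) * i⁻¹ := by group
          _ = _ := e1
      have e3 : Commute v (y * y) := by
        show v * (y * y) = y * y * v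
        calc v * (y * y) = y * (y⁻¹ * v * y) * y := by group
          _ = _ := by rw [e2]; group
      have e4 : y = (y * y) ^ 2 := by
        calc y = y ^ 3 * y := by rw [h.c3 y hy, one_mul]
          _ = _ := by simp only [pow_succ, pow_zero, one_mul, mul_assoc]
      have e5 : v * y = y * v := by
        have := e3.pow_right 2
        rwa [← e4] at this
      exact v1 (h.two (h.cc L hx x1 hy hn ((L.mem x ho v).1 hv).1 e5) (el v hv))
    obtain ⟨k, hk, e⟩ := (Nat.dvd_prime_pow Nat.prime_two).1 d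
    rw [e] at n1 n4 ⊢
    interval_cases k <;> simp at n1 n4 ⊢

end CL.T3
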