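/-
Project T3: 3-solvable overgroups of `P`.
-/
import Cfsg.Agent.T3.Defs
import Cfsg.Agent.Loc.PLength
import Cfsg.Agent.S3347

set_option autoImplicit false
set_option linter.unusedSectionVars false
open Cfsg Subgroup CL.Even CL.Grp

namespace CL.T3

universe u

namespace L3x

instance : Fact (Nat.Prime 3) := ⟨Nat.prime_three⟩

section
variable {X : Type u} [Group X] [Finite X]

theorem cop {v : X} (h : v * v = 1) : (orderOf v).Coprime 3 :=
  Nat.Coprime.coprime_dvd_left (orderOf_dvd_of_pow_eq_one ((pow_two v).trans h)) (by norm_num)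

theorem dec (S : Sylow 3 X) (h : (S : Subgroup X) ≤ pPrimePCore 3 X) (g : X) :
    ∃ o ∈ pPrimeCore 3 X, ∃ n ∈ 𝒩((S : Subgroup X)), o * n = g := by
  have h2 := CL.Loc.pPrimeCore_sup_eq_of_isSylowIn (isSylowIn_of_le S h)
  have h4 : pPrimePCore 3 X ≤ pPrimeCore 3 X ⊔ 𝒩((S : Subgroup X)) :=
    h2.ge.trans (sup_le (le_normalizer.trans le_sup_right) le_sup_left)
  exact (mem_sup_nl le_normalizer_of_normal).1
    (((Sylow.normalizer_sup_eq_top' S h).ge.trans (sup_le le_sup_right h4)) (mem_top g))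

theorem mem_core {v y : X} (hy : y ∈ pPrimePCore 3 X) (v2 : v * v = 1)
    (e : v * (y * v * y⁻¹) * (y * (y * v * y⁻¹) * y⁻¹) = 1) : v ∈ pPrimeCore 3 X := by
  have a : v ∈ pPrimePCore 3 X := by
    have := congrArg (QuotientGroup.mk' (pPrimePCore 3 X)) e
    have k : QuotientGroup.mk' (pPrimePCore 3 X) y = 1 := (QuotientGroup.eq_one_iff y).2 hy
    simp only [map_mul, map_inv, k, one_mul, inv_one, mul_one, map_one] at this
    rw [← map_mul, v2, map_one, one_mul] at this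
    exact (QuotientGroup.eq_one_iff v).1 this
  exact (QuotientGroup.eq_one_iff v).1 (eq_one_of_coprime_of_mem (pCore_isPGroup 3 _)
    (cop (v := QuotientGroup.mk' (pPrimeCore 3 X) v) (by rw [← map_mul, v2, map_one])) a)

end

variable {G : Type u} [Group G] [Finite G] (B : Bs G)

theorem cube {p : G} (hp : p ∈ B.P) : p ^ 3 = 1 := by
  by_cases e : p = 1
  · rw [e, one_pow]
  · rw [← B.o3 p hp e, pow_orderOf_eq_one]

theorem eq_one {p : G} (hp : p ∈ B.P) (h : p * p = 1) : p = 1 := by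
  have := cube B hp
  rwa [pow_succ, pow_two, h, one_mul] at this

theorem ii : B.i * B.i = 1 := by rw [← pow_two, ← B.i2, pow_orderOf_eq_one]

theorem ex_out (x : G) (hx : x ∈ B.P) : ∃ y ∈ B.P, y ∉ zpowers x := by
  by_contra! k
  have := card_le_of_le (H := B.P) (K := zpowers x) k
  rw [B.cP, Nat.card_zpowers] at this
  have := orderOf_le_of_pow_eq_one (by norm_num) (cube B hx)
  omega

theorem syl {X : Subgroup G} (h : B.P ≤ X) : IsSylowIn 3 B.P X :=
  ⟨h, IsPGroup.of_card (n := 2) B.cP, fun k => B.loc.not27 (by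
    refine dvd_trans ?_ (card_subgroup_dvd_card X)
    rw [← card_mul_relIndex h, B.cP]
    exact Nat.mul_dvd_mul_left 9 k)⟩

theorem cen {X : Subgroup G} (h : B.P ≤ X) :
    ((syl B h).toSylow : Subgroup X) ≤ 𝒞(((syl B h).toSylow : Subgroup X)) :=
  fun a ha b hb => Subtype.ext (B.cm _ hb _ ha)

theorem psolv {X : Subgroup G} (h : B.P ≤ X) (hi : B.i ∈ X)
    (hn : ∀ n ∈ X, n ∈ 𝒩(B.P) → ∃ p ∈ B.P, n = p ∨ n = p * B.i) : IsPSolvable 3 X := by
  have iN : B.i ∈ 𝒩(B.P) := mem_norm_of_cj_le (by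
    rintro _ ⟨p, hp, rfl⟩
    change B.i * p * B.i⁻¹ ∈ _
    rw [B.iinv p hp]
    exact inv_mem hp)
  have nn : ∀ n : X, n ∈ 𝒩(((syl B h).toSylow : Subgroup X)) ↔ (n : G) ∈ 𝒩(B.P) := fun n => by
    rw [IsSylowIn.coe_toSylow, ← subgroupOf_normalizer_eq h, mem_subgroupOf]
  have iC : (⟨B.i, hi⟩ : X) ∉ 𝒞(((syl B h).toSylow : Subgroup X)) := fun k => by
    obtain ⟨y, hy, n⟩ := ex_out B 1 (one_mem _)
    have e : y * B.i = B.i * y := congrArg Subtype.val (k ⟨y, h hy⟩ hy)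
    have := B.iinv y hy
    rw [← e, mul_inv_cancel_right] at this
    exact n (by rw [eq_one B hy (mul_eq_one_iff_eq_inv.2 this)]; exact one_mem _)
  refine CL.Loc.isPSolvable_of_pLengthLE ((Cfsg.Agent.S3347.result 3 (by norm_num) (syl B h).toSylow
    ⟨⟨fun a b => Subtype.ext (cen B h b.2 _ a.2)⟩⟩ (fun k => ?_) (index_eq_two_iff.2 ⟨⟨_, (nn ⟨_, hi⟩).2 iN⟩, fun b => ?_⟩)).resolve_left
    (not_not.2 ?_))
  · obtain ⟨x, hx⟩ := k.exists_generator
    obtain ⟨y, hy, n⟩ := ex_out B x.1.1 x.2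
    obtain ⟨m, e⟩ := hx ⟨⟨y, h hy⟩, hy⟩
    exact n ⟨m, congrArg (fun a => a.1.1) e⟩
  · rw [mem_subgroupOf, mem_subgroupOf]
    obtain ⟨p, hp, e | e⟩ := hn b.1.1 b.1.2 ((nn _).1 b.2)
    · have k := cen B h (show b.1 ∈ ((syl B h).toSylow : Subgroup X) from mem_subgroupOf.2 (e ▸ hp))
      exact .inr ⟨k, fun c => iC ((mul_mem_cancel_left k).1 c)⟩
    · have k := cen B h (show b.1 * ⟨B.i, hi⟩ ∈ ((syl B h).toSylow : Subgroup X) from mem_subgroupOf.2 (by
        rw [coe_mul, e, mul_assoc, ii B, mul_one]; exact hp))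
      exact .inl ⟨k, fun c => iC ((mul_mem_cancel_left c).1 k)⟩
  · have : B.P ≤ pResidualOf 3 X := fun p hp => by
      refine (mul_mem_cancel_right (mem_res hi (cop (ii B)))).1 (mem_res (mul_mem (h hp) hi) (cop ?_))
      calc _ = p * (B.i * p * B.i⁻¹) * (B.i * B.i) := by group
        _ = 1 := by rw [B.iinv p hp, ii B]; group
    rw [← subgroupOf_res, subgroupOf_eq_top]
    exact (syl_sup_res (syl B h)).ge.trans (sup_le this le_rfl)

end L3x

open L3x in
theorem l3S (hG : GenS.{u}) : L3S.{u} := by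
  intro G _ _ B X h hX
  have le := (cen B h).trans (CL.Loc.centralizer_sylow_le_pPrimePCore (CL.Loc.isPConstrained_of_isPSolvable
    (hX.elim CL.Loc.isPSolvable_of_isSolvable fun k => psolv B h k.1 k.2)) (syl B h).toSylow)
  have n := le_normalizer_pPrimeCoreOf 3 X
  refine ⟨pPrimeCoreOf 3 X, pPrimeCoreOf_le 3 X, n, (hG G B _ (h.trans n)
    ((Nat.Prime.coprime_iff_not_dvd Nat.prime_three).1 (pPrimeCoreOf_coprime 3 X).symm)).1,
    fun x hx x1 hV v hv => ?_, fun g hg => ?_⟩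
  · obtain ⟨y, hy, yx⟩ := ex_out B x hx
    have o3 := B.o3 x hx x1
    have el : El (V x) := fun a ha => ((B.loc.mem x o3 a).1 ha).2
    have m1 := conj_mem (B.PV x hx hy) hv
    have m2 := conj_mem (B.PV x hx hy) m1
    have m := mul_mem (mul_mem hv m1) m2
    refine ⟨⟨v, hV hv⟩, mem_core (y := ⟨y, h hy⟩) (le hy) (Subtype.ext (el v hv)) (Subtype.ext ?_), rfl⟩
    change v * (y * v * y⁻¹) * (y * (y * v * y⁻¹) * y⁻¹) = 1
    refine eq_one B ?_ (el _ m)
    rw [← B.gen x hx x1 y hy yx, ← B.loc.cP x y o3 (B.o3 y hy fun e => yx (e ▸ one_mem _)) (B.cm x hx y hy) yx]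
    refine ⟨V_le_C1 x m, mem_C1.2 (mul_inv_eq_iff_eq_mul.1 ?_).symm⟩
    have y3 := cube B hy
    calc _ = y * v * y⁻¹ * (y * (y * v * y⁻¹) * y⁻¹) * (y ^ 3 * v * (y ^ 3)⁻¹) := by group
      _ = _ := by rw [y3, one_mul, inv_one, mul_one, ← el.comm hv (mul_mem m1 m2), ← mul_assoc]
  · obtain ⟨o, ho, m, hm, e⟩ := dec _ le ⟨g, hg⟩
    rw [IsSylowIn.coe_toSylow, ← subgroupOf_normalizer_eq h, mem_subgroupOf] at hm
    exact ⟨o, ⟨o, ho, rfl⟩, m, m.2, hm, (congrArg Subtype.val e).symm⟩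

end CL.T3
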