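/-
Project T3: groups in which the centralisers of elements of order 3 are `3 × 3`.
-/
import Cfsg.Agent.T3.Defs
import Cfsg.Agent.S0058
import Cfsg.Agent.S3341
import Cfsg.Agent.Fgs.STMain
import Cfsg.Agent.Odd.Frob1

set_option autoImplicit false
set_option linter.unusedSectionVars false
open Cfsg Subgroup CL.Even CL.Grp

namespace CL.T3

universe u

namespace Mb

variable {Y : Type u} [Group Y] [Finite Y]

instance fact3 : Fact (Nat.Prime 3) := ⟨by norm_num⟩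

structure HP (P : Subgroup Y) : Prop where
  card : Nat.card P = 9
  cube : ∀ x ∈ P, x ^ 3 = 1
  cen : ∀ x ∈ P, x ≠ 1 → C1 x = P

theorem hp_of (h : H9 Y) {P : Subgroup Y} (hP : Nat.card P = 9) : HP P := by
  have hc : ∀ a ∈ P, ∀ b ∈ P, a * b = b * a := fun a ha b hb =>
    congrArg Subtype.val ((IsPGroup.isMulCommutative_of_card_eq_prime_sq (p := 3) (G := P)
      (by rw [hP]; norm_num)).is_comm.comm ⟨a, ha⟩ ⟨b, hb⟩)
  have h3 : ∀ x ∈ P, x ^ 3 = 1 := fun x hx => by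
    by_contra e
    have h9 : (x ^ 3) ^ 3 = 1 := by
      have := pow_card_eq_one' (x := (⟨x, hx⟩ : P))
      rw [hP] at this
      rw [← pow_mul]
      exact congrArg Subtype.val this
    exact e ((h _ (orderOf_eq_prime h9 e)).2 x (mem_C1.2 ((Commute.refl x).pow_right 3).eq))
  refine ⟨hP, h3, fun x hx h1 => (eq_of_le_of_card_ge (fun y hy => mem_C1.2 (hc y hy x hx)) ?_).symm⟩
  rw [(h x (orderOf_eq_prime (h3 x hx) h1)).1, hP]

namespace HP

variable {P : Subgroup Y} (h : HP P)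
include h

theorem mem_of {x y : Y} (hx : x ∈ P) (h1 : x ≠ 1) (e : y * x = x * y) : y ∈ P := h.cen x hx h1 ▸ mem_C1.2 e

theorem comm {a b : Y} (ha : a ∈ P) (hb : b ∈ P) : a * b = b * a := by
  by_cases e : b = 1
  · simp [e]
  · exact mem_C1.1 ((h.cen b hb e).symm ▸ ha)

theorem isP : IsPGroup 3 P := IsPGroup.of_card (n := 2) (by rw [h.card]; norm_num)

theorem ne_bot : P ≠ ⊥ := fun e => by
  have := h.card
  rw [e, card_bot] at this
  omega

theorem ex : ∃ x ∈ P, x ≠ 1 := by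
  by_contra hn
  push Not at hn
  exact h.ne_bot (eq_bot_iff_forall _ |>.2 hn)

theorem ord {x : Y} (hx : x ∈ P) (h1 : x ≠ 1) : orderOf x = 3 := orderOf_eq_prime (h.cube x hx) h1

theorem syl : IsSylowIn 3 P ⊤ := by
  obtain ⟨S, hS, hPS⟩ := exists_isSylowIn_ge h.isP (le_top : P ≤ ⊤)
  have h1 := inf_cent_ne_bot hS.isPGroup hS.isPGroup le_normalizer
    fun e => h.ne_bot (le_bot_iff.1 (e ▸ hPS))
  obtain ⟨⟨z, hz⟩, hz1⟩ := ne_bot_iff_exists_ne_one.1 h1
  have hz1' : z ≠ 1 := fun e => hz1 (Subtype.ext e)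
  obtain ⟨x, hx, hx1⟩ := h.ex
  have hzP : z ∈ P := h.mem_of hx hx1 (comm_of_mem hz.2 (hPS hx)).symm
  have : S = P := le_antisymm (fun s hs => h.mem_of hzP hz1' (comm_of_mem hz.2 hs)) hPS
  exact this ▸ hS

theorem mulComm : IsMulCommutative P := ⟨⟨fun a b => Subtype.ext (h.comm a.2 b.2)⟩⟩

theorem ncyc : ¬ IsCyclic P := fun hc => by
  obtain ⟨g, hg⟩ := IsCyclic.exists_ofOrder_eq_natCard (α := P)
  have : orderOf g ∣ 3 := orderOf_dvd_of_pow_eq_one (Subtype.ext (h.cube g g.2))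
  rw [hg, h.card] at this
  omega

theorem triv {K : Subgroup Y} (hn : P ≤ 𝒩(K)) (hK : P ⊓ K = ⊥) : K = ⊥ := by
  have h1 := (syl_inf_of_norm h.syl le_top hn).not_dvd
  rw [hK, relIndex_bot_left] at h1
  have := h.mulComm
  rw [← Cfsg.Agent.S0058.result P K h.ncyc hn (by
    rw [h.card]; exact ((Nat.Prime.coprime_iff_not_dvd (by norm_num)).2 h1).pow_left 2)]
  refine eq_bot_iff.2 (iSup₂_le fun a ha => ?_)
  rw [show centralizer {a} = P from h.cen a ha.1 ha.2, inf_comm, hK]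

theorem norm_of {x g : Y} (hx : x ∈ P) (h1 : x ≠ 1) (e : g * x * g⁻¹ ∈ P) : g ∈ 𝒩(P) := by
  refine mem_norm_of_cj_le ?_
  rintro _ ⟨p, hp, rfl⟩
  refine h.mem_of e (fun k => h1 (by simpa using k)) ?_
  show g * p * g⁻¹ * (g * x * g⁻¹) = g * x * g⁻¹ * (g * p * g⁻¹)
  rw [conj_mul, conj_mul, h.comm hp hx]

theorem inv_of_sq {n : Y} (hn : n ∈ 𝒩(P)) (h1 : n ∉ P) (h2 : n * n ∈ P) {x : Y} (hx : x ∈ P) :
    n * x * n⁻¹ = x⁻¹ := by
  have k := conj_mem hn hx
  by_contra e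
  refine h1 (h.mem_of (mul_mem hx k) (fun k' => e (eq_inv_of_mul_eq_one_right k')) ?_)
  calc n * (x * (n * x * n⁻¹)) = n * x * n⁻¹ * ((n * n) * x * (n * n)⁻¹) * n := by group
    _ = _ := by rw [h.comm h2 hx, mul_inv_cancel_right, h.comm k hx]

theorem sub {X : Subgroup Y} (hX : P ≤ X) : HP (P.subgroupOf X) := by
  refine ⟨by rw [Nat.card_congr (subgroupOfEquivOfLe hX).toEquiv, h.card], fun x hx => Subtype.ext (h.cube x hx),
    fun x hx h1 => Subgroup.ext fun y => ?_⟩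
  rw [mem_C1, mem_subgroupOf, ← h.cen x hx fun e => h1 (Subtype.ext e), mem_C1, Subtype.ext_iff]
  rfl

theorem st0 {i : Y} (hi : ∀ p ∈ P, i * p * i⁻¹ = p⁻¹)
    (hc : ∀ n ∈ 𝒩(P), (∀ x ∈ P, n * x * n⁻¹ = x) ∨ ∀ x ∈ P, n * x * n⁻¹ = x⁻¹) : P.Normal := by
  obtain ⟨S, rfl⟩ := isSylowIn_top_iff.1 h.syl
  obtain ⟨x, hx, hx1⟩ := h.ex
  refine CL.ST.Hyp.normal ⟨h.mulComm, h.ncyc, hc, i, h.norm_of hx hx1 (by rw [hi x hx]; exact inv_mem hx), hi⟩
    (by norm_num) fun N hN h3 => h.triv (by rw [normalizer_eq_top]; exact le_top) ?_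
  by_contra e
  obtain ⟨⟨z, hz⟩, hz1⟩ := ne_bot_iff_exists_ne_one.1 e
  exact h3 (h.ord hz.1 (fun e => hz1 (Subtype.ext e)) ▸ N.orderOf_dvd_natCard hz.2)

theorem st {i : Y} (hi : ∀ p ∈ P, i * p * i⁻¹ = p⁻¹) {N : Subgroup Y} (hN : N.Normal) (hPN : P ≤ N)
    (hc : ∀ n ∈ 𝒩(P) ⊓ N, n * n ∈ P) : N ≤ 𝒩(P) := by
  obtain ⟨x, hx, hx1⟩ := h.ex
  have hiN : i ∈ 𝒩(P) := h.norm_of hx hx1 (by rw [hi x hx]; exact inv_mem hx)
  let U : Subgroup Y :=
    { carrier := {n | (∀ x ∈ P, n * x * n⁻¹ = x) ∨ ∀ x ∈ P, n * x * n⁻¹ = x⁻¹}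
      one_mem' := Or.inl (by simp)
      mul_mem' := fun {a b} ha hb => by
        have k : ∀ x, a * b * x * (a * b)⁻¹ = a * (b * x * b⁻¹) * a⁻¹ := fun x => by group
        rcases ha with ha | ha <;> rcases hb with hb | hb
        · exact Or.inl fun x hx => by rw [k, hb x hx, ha x hx]
        · exact Or.inr fun x hx => by rw [k, hb x hx, ha _ (inv_mem hx)]
        · exact Or.inr fun x hx => by rw [k, hb x hx, ha x hx]
        · exact Or.inl fun x hx => by rw [k, hb x hx, ha _ (inv_mem hx), inv_inv]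
      inv_mem' := fun {a} ha => by
        rcases ha with ha | ha
        · exact Or.inl fun x hx => by conv_lhs => rw [← ha x hx]
                                      group
        · exact Or.inr fun x hx => by
            have := ha _ (inv_mem hx)
            rw [inv_inv] at this
            conv_lhs => rw [← this]
            group }
  have hPX : P ≤ zpowers i ⊔ N := hPN.trans le_sup_right
  have h1 := (h.sub hPX).st0 (i := ⟨i, mem_sup_left (mem_zpowers i)⟩) (fun p hp => Subtype.ext (hi p hp))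
    fun n hn => by
      rw [← subgroupOf_normalizer_eq hPX, mem_subgroupOf] at hn
      obtain ⟨a, ha, b, hb, e⟩ := (mem_sup_nr (by rw [normalizer_eq_top]; exact le_top)).1 n.2
      have haN : a ∈ 𝒩(P) := zpowers_le.2 hiN ha
      have hbN : b ∈ 𝒩(P) := (mul_mem_cancel_left haN).1 (e ▸ hn)
      have hU : (n : Y) ∈ U := by
        rw [← e]
        refine U.mul_mem (zpowers_le.2 (show i ∈ U from Or.inr hi) ha) ?_
        by_cases hbP : b ∈ P
        · exact Or.inl fun x hx => by rw [h.comm hbP hx, mul_inv_cancel_right]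
        · exact Or.inr fun x hx => h.inv_of_sq hbN hbP (hc b ⟨hbN, hb⟩) hx
      exact hU.imp (fun k x hx => Subtype.ext (k x hx)) fun k x hx => Subtype.ext (k x hx)
  exact le_sup_right.trans ((normal_subgroupOf_iff_le_normalizer hPX).1 h1)

theorem idx {L : Subgroup Y} (h1 : P ≤ L) (h2 : L ≤ 𝒩(P)) :
    (∀ n ∈ L, n * n ∈ P) ∨ Nat.card L = 36 ∨ Nat.card L = 72 := by
  have hd : P.relIndex L ∣ 8 := by
    rcases h1.lt_or_eq with e | e
    · simpa [h.card] using (CL.Odd.FrobKer.iff.2 ⟨h.ne_bot, e, ⟨h1, h2⟩, fun x hx hx1 =>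
        inf_le_right.trans (h.cen x hx hx1).le⟩).relIndex_dvd_pred
    · rw [← e, relIndex_self]; exact one_dvd _
  have hc : Nat.card L = 9 * P.relIndex L := by
    rw [← (P.subgroupOf L).card_mul_index, (h.sub h1).card]; rfl
  have k : P.relIndex L ∣ 2 → ∀ n ∈ L, n * n ∈ P := fun ⟨c, hc⟩ n hn => by
    have := normal_subgroupOf_of_le_normalizer h2
    have h3 : n ^ P.relIndex L ∈ P := (P.subgroupOf L).pow_index_mem ⟨n, hn⟩
    rw [← pow_two, hc, pow_mul]
    exact pow_mem h3 c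
  have := Nat.le_of_dvd (by norm_num) hd
  interval_cases e : P.relIndex L <;> first | omega | exact Or.inl (k (by norm_num))

/-- conjugates of `P` inside a normal subgroup -/
theorem cjN {N : Subgroup Y} (hN : N.Normal) (hPN : P ≤ N) (g : Y) : ∃ n ∈ N, cj n P = cj g P :=
  syl_conj (h.syl.of_le hPN le_top)
    (syl_cj_of_mem_norm (h.syl.of_le hPN le_top) (by rw [normalizer_eq_top]; trivial))

theorem normal_of {N : Subgroup Y} (hN : N.Normal) (hPN : P ≤ N) (hn : N ≤ 𝒩(P)) : P.Normal := by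
  refine normalizer_eq_top_iff.1 (eq_top_iff.2 fun g _ => ?_)
  obtain ⟨n, hn', e⟩ := h.cjN hN hPN g
  rw [← cj_eq_iff_mem, ← e, cj_eq (hn hn')]

theorem mem_zp {x y : Y} (hx : x ∈ P) (h1 : x ≠ 1) (hy : y ∈ zpowers x) : y = 1 ∨ y = x ∨ y = x⁻¹ := by
  classical
  obtain ⟨k, hk, rfl⟩ := Finset.mem_image.1 (mem_zpowers_iff_mem_range_orderOf.1 hy)
  rw [h.ord hx h1, Finset.mem_range] at hk
  interval_cases k
  · simp
  · simp
  · exact Or.inr (Or.inr (eq_inv_of_mul_eq_one_left (by rw [← pow_succ]; exact h.cube x hx)))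

theorem le_of {K : Subgroup Y} {x y : Y} (hx : x ∈ P ⊓ K) (h1 : x ≠ 1) (hy : y ∈ P ⊓ K) (hxy : y ∉ zpowers x) :
    P ≤ K := by
  have h2 : Nat.card (P ⊓ K : Subgroup Y) ∣ 3 ^ 2 := by
    simpa [h.card] using card_dvd_of_le (inf_le_left : P ⊓ K ≤ P)
  have h3 : Nat.card (zpowers x) = 3 := by rw [Nat.card_zpowers, h.ord hx.1 h1]
  have h4 : ¬ Nat.card (P ⊓ K : Subgroup Y) ≤ 3 := fun e =>
    hxy (eq_of_le_of_card_ge (zpowers_le.2 hx) (by rw [h3]; exact e) ▸ hy)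
  obtain ⟨k, hk, e⟩ := (Nat.dvd_prime_pow (by norm_num)).1 h2
  have h5 : P ⊓ K = P := eq_of_le_of_card_ge inf_le_left (by
    rw [h.card]; rw [e] at h4 ⊢; interval_cases k <;> omega)
  exact inf_eq_left.1 h5

end HP

end Mb

open Mb

theorem mb1S : Mb1S.{u} := by
  intro Y _ _ h9 P i hP hiP hi
  have h := hp_of h9 hP
  refine or_iff_not_imp_left.2 fun hn => ?_
  obtain ⟨x₀, hx₀, hx₀1⟩ := h.ex
  have hiN : i ∈ 𝒩(P) := h.norm_of hx₀ hx₀1 (by rw [hi _ hx₀]; exact inv_mem hx₀)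
  have big : ∀ N : Subgroup Y, N.Normal → P ≤ N → ¬ ∀ n ∈ 𝒩(P) ⊓ N, n * n ∈ P := fun N hN hPN k =>
    hn (h.normal_of hN hPN (h.st hi hN hPN k))
  obtain ⟨f, hf, hff⟩ : ∃ f ∈ 𝒩(P), f * f ∉ P := by
    by_contra k
    push Not at k
    exact big ⊤ inferInstance le_top fun n hn => k n hn.1
  have fm : ∀ x ∈ P, x ≠ 1 → f * x * f⁻¹ ∉ zpowers x := fun x hx h1 e => by
    refine hff (h.mem_of hx h1 (mul_inv_eq_iff_eq_mul.1 ?_))
    have k : f * f * x * (f * f)⁻¹ = f * (f * x * f⁻¹) * f⁻¹ := by group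
    rcases h.mem_zp hx h1 e with e | e | e
    · exact absurd (by simpa using e) h1
    · rw [k, e, e]
    · rw [k, e, ← conj_inv, e, inv_inv]
  obtain ⟨N, ⟨hN, hN0⟩, hmin⟩ := (wellFounded_lt (α := Subgroup Y)).has_min {N | N.Normal ∧ N ≠ ⊥}
    ⟨⊤, inferInstance, fun e => h.ne_bot (le_bot_iff.1 (e ▸ le_top))⟩
  have nN : ∀ g, g ∈ 𝒩(N) := fun g => by rw [normalizer_eq_top]; trivial
  have meet : ∀ K : Subgroup Y, P ≤ 𝒩(K) → K ≠ ⊥ → ∃ x ∈ P ⊓ K, x ≠ 1 := fun K h1 h2 => by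
    obtain ⟨⟨z, hz⟩, hz1⟩ := ne_bot_iff_exists_ne_one.1 (mt (h.triv h1) h2)
    exact ⟨z, hz, fun e => hz1 (Subtype.ext e)⟩
  have hPN : P ≤ N := by
    obtain ⟨x, hx, h1⟩ := meet N (fun g _ => nN g) hN0
    exact h.le_of hx h1 ⟨conj_mem hf hx.1, hN.conj_mem _ hx.2 f⟩ (fm x hx.1 h1)
  have simp : ∀ K : Subgroup Y, K ≤ N → N ≤ 𝒩(K) → K = ⊥ ∨ K = N := fun K hK hK' => by
    refine or_iff_not_imp_left.2 fun hK0 => ?_
    have hPK : P ≤ K := by
      by_contra hPK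
      obtain ⟨x, hx, h1⟩ := meet K (hPN.trans hK') hK0
      have hK2 : N ≤ 𝒩(cj f K) := by rw [← cj_norm, ← cj_eq (nN f)]; exact cj_mono f hK'
      have h2 : K ⊓ cj f K = ⊥ := by
        by_contra e
        obtain ⟨y, hy, hy1⟩ := meet _ (hPN.trans (le_norm_inf hK' hK2)) e
        have hy2 : f⁻¹ * y * f ∈ P ⊓ K := ⟨conj_mem' hf hy.1, mem_cj.1 hy.2.2⟩
        refine hPK (h.le_of hy2 (fun e => hy1 (by simpa [mul_assoc, inv_mul_eq_one] using e)) ⟨hy.1, hy.2.1⟩ fun e => ?_)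
        exact fm _ hy2.1 (fun e => hy1 (by simpa [mul_assoc, inv_mul_eq_one] using e)) (by simpa [mul_assoc] using e)
      have h3 : K ≤ P := fun k hk => by
        have y1 : f * x * f⁻¹ ∈ cj f K := conj_mem_cj f hx.2
        refine h.mem_of (conj_mem hf hx.1) (fun e => h1 (by simpa using e)) ?_
        set y := f * x * f⁻¹
        have : k * y * k⁻¹ * y⁻¹ ∈ K ⊓ cj f K :=
          ⟨by simpa [mul_assoc] using K.mul_mem hk (conj_mem (hK' (cj_le_of_le hK (nN f) y1)) (inv_mem hk)),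
            (cj f K).mul_mem (conj_mem (hK2 (hK hk)) y1) ((cj f K).inv_mem y1)⟩
        rw [h2, mem_bot, mul_inv_eq_one, mul_inv_eq_iff_eq_mul] at this
        exact this
      exact hn (h.normal_of hN hPN fun n hn => h.norm_of hx.1 h1 (h3 (conj_mem (hK' hn) hx.2)))
    have h1 : normalClosure (P : Set Y) ≤ K := by
      refine (closure_le _).2 fun y hy => ?_
      obtain ⟨p, hp, hc⟩ := Group.mem_conjugatesOfSet_iff.1 hy
      obtain ⟨g, rfl⟩ := isConj_iff.1 hc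
      obtain ⟨n, hn', e⟩ := h.cjN hN hPN g
      exact cj_le_of_le hPK (hK' hn') (e ▸ conj_mem_cj g hp)
    refine le_antisymm hK (le_trans ?_ h1)
    by_contra e
    exact hmin (normalClosure (P : Set Y)) ⟨inferInstance, fun e' => h.ne_bot (le_bot_iff.1 (e' ▸ le_normalClosure))⟩
      (lt_of_le_not_ge (h1.trans hK) e)
  have hL := (h.idx (le_inf le_normalizer hPN) inf_le_left).resolve_left (big N hN hPN)
  have hM := (h.idx le_normalizer le_rfl).resolve_left fun k => hff (k f hf)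
  have hI : Nat.card (𝒩(P) ⊓ N : Subgroup Y) * N.index = Nat.card 𝒩(P) := by
    have e1 : 𝒩(P) ⊔ N = ⊤ := by
      simpa using frattini_sup (h.syl.of_le hPN le_top) (le_top : N ≤ ⊤) fun g _ => nN g
    rw [← relIndex_top_right, ← e1, relIndex_sup_right, ← (N.subgroupOf 𝒩(P)).card_mul_index, ← inf_subgroupOf_left,
      Nat.card_congr (subgroupOfEquivOfLe inf_le_left).toEquiv, inf_subgroupOf_left]
    rfl
  have hN1 : Nontrivial N := (nontrivial_iff_ne_bot N).2 hN0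
  refine ⟨N, hN, ?_, hPN, ?_, ⟨fun K hK => ?_⟩, fun hc => ?_, ?_⟩
  · rcases hL with e | e <;> rcases hM with e' | e' <;> rw [e, e'] at hI
    · exact (show N.index = 1 by omega) ▸ one_dvd _
    · exact (show N.index = 2 by omega) ▸ dvd_rfl
    · omega
    · exact (show N.index = 1 by omega) ▸ one_dvd _
  · obtain ⟨⟨t, ht⟩, ht2⟩ := exists_prime_orderOf_dvd_card' (G := (𝒩(P) ⊓ N : Subgroup Y)) 2
      (by rcases hL with e | e <;> rw [e] <;> norm_num)
    rw [orderOf_mk] at ht2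
    have tP : t ∉ P := fun e => by
      have := h.ord e fun e' => by simp [e'] at ht2
      omega
    have e := h.inv_of_sq ht.1 tP (by rw [← pow_two, ← ht2, pow_orderOf_eq_one]; exact one_mem _) hx₀
    refine (N.mul_mem_cancel_left (N.inv_mem ht.2)).1 (hPN (h.mem_of hx₀ hx₀1 (mul_inv_eq_iff_eq_mul.1 ?_)))
    calc t⁻¹ * i * x₀ * (t⁻¹ * i)⁻¹ = t⁻¹ * (i * x₀ * i⁻¹) * t := by group
      _ = x₀ := by rw [hi _ hx₀, ← e]; group
  · rcases simp (K.map N.subtype) (map_subtype_le K) (by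
      rw [← normal_subgroupOf_iff_le_normalizer (map_subtype_le K), subgroupOf, comap_map_eq_self_of_injective
        (subtype_injective N)]; exact hK) with e | e
    · exact Or.inl ((map_eq_bot_iff_of_injective K (subtype_injective N)).1 e)
    · exact Or.inr (map_injective (subtype_injective N) (by rw [e, ← MonoidHom.range_eq_map, range_subtype]))
  · exact hn (h.normal_of hN hPN fun n hn => le_normalizer (h.mem_of hx₀ hx₀1
      (congrArg Subtype.val (hc.is_comm.comm ⟨n, hn⟩ ⟨x₀, hPN hx₀⟩))))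
  · refine hL.imp_right fun e => ?_
    rcases hM with e' | e' <;> rw [e, e'] at hI
    · omega
    · exact ⟨index_eq_one.1 (by omega), e'⟩

theorem mbS (h1 : Mb1S.{u}) (hF : F1S.{u}) : MbS.{u} := by
  intro Y _ _ h9 P i hP hiP hi
  have h := hp_of h9 hP
  refine (h1 Y h9 P i hP hiP hi).imp_right ?_
  rintro ⟨N, hN, hI, hPN, hiN, hs, hc, e | ⟨rfl, e⟩⟩
  · refine Or.inl ⟨N, hN, hI, hPN, hiN, e, ?_⟩
    have h' := h.sub hPN
    refine Cfsg.Agent.S3341.result (h.syl.of_le hPN le_top).toSylow (P.subgroupOf N) rfl h'.mulComm h'.cube h'.card ?_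
      h'.cen
    by_contra k
    push Not at k
    obtain ⟨x, hx, hx1⟩ := h.ex
    have k' : ∀ y : {y : P // y ≠ 1}, ∃ g ∈ 𝒩(P) ⊓ N, g * x * g⁻¹ = y.1 := fun y => by
      obtain ⟨g, hg⟩ := k ⟨x, hPN hx⟩ ⟨y.1, hPN y.1.2⟩ (by rw [orderOf_mk]; exact h.ord hx hx1)
        (by rw [orderOf_mk]; exact h.ord y.1.2 fun e => y.2 (Subtype.ext e))
      have hg' : (g : Y) * x * (g : Y)⁻¹ = y.1 := congrArg Subtype.val hg
      exact ⟨g, ⟨h.norm_of hx hx1 (hg' ▸ y.1.2), g.2⟩, hg'⟩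
    choose g hg hg' using k'
    have := Nat.card_le_card_of_injective (fun a : {y : P // y ≠ 1} × P => (⟨g a.1 * a.2,
      mul_mem (hg a.1) ⟨le_normalizer a.2.2, hPN a.2.2⟩⟩ : (𝒩(P) ⊓ N : Subgroup Y))) fun a b hab => by
        have e1 : g a.1 * a.2 = g b.1 * b.2 := congrArg Subtype.val hab
        have k : ∀ a : {y : P // y ≠ 1} × P, g a.1 * a.2 * x * (g a.1 * a.2)⁻¹ = a.1.1 := fun a => by
          rw [← hg' a.1, mul_assoc (g a.1), h.comm a.2.2 hx]; group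
        have e2 : a.1 = b.1 := Subtype.ext (Subtype.ext (by rw [← k a, ← k b, e1]))
        rw [e2] at e1
        exact Prod.ext e2 (Subtype.ext (mul_left_cancel e1))
    classical
    have _i := Fintype.ofFinite P
    rw [e, Nat.card_prod, hP, Nat.card_eq_fintype_card, Fintype.card_subtype_compl, Fintype.card_subtype_eq,
      ← Nat.card_eq_fintype_card, hP] at this
    omega
  · refine Or.inr ⟨e, ?_⟩
    have hs' : IsSimpleGroup Y := topEquiv.symm.isSimpleGroup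
    refine (hF Y hs' (fun k => hc ⟨⟨fun a b => Subtype.ext (k.is_comm.comm a b)⟩⟩) h9
      ((show 3 ∣ Nat.card P by rw [hP]; norm_num).trans (card_subgroup_dvd_card P))).resolve_left fun ⟨φ⟩ => ?_
    obtain ⟨S, rfl⟩ := isSylowIn_top_iff.1 h.syl
    have k1 := card_sylow_modEq_one 3 Y
    have k2 := (𝒩((S : Subgroup Y))).card_mul_index
    rw [e, show (𝒩((S : Subgroup Y))).index = _ from S.card_eq_index_normalizer.symm, Nat.card_congr φ.toEquiv, nat_card_alternatingGroup] at k2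
    have k3 : Nat.card (Sylow 3 Y) = 5 := by simp [Nat.factorial] at k2; omega
    rw [k3] at k1
    exact absurd k1 (by decide)

end CL.T3
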